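import Mathlib.Data.Nat.Choose.Factorization
import Mathlib.Data.Nat.Factorial.BigOperators
import Mathlib.Tactic
import Cfsg.Prelude.Def_Characters
import Cfsg.Agent.Characters.Core
import Cfsg.Agent.Characters.Values
import Cfsg.Agent.PLocal.HHBMinimal
import Mathlib.GroupTheory.Perm.DomMulAct
set_option linter.all false

-- part: H600/Lam
section
/-!
# The function `λ_p(n) = Σ_i ⌊n / ((p - 1) p^i)⌋`
-/

set_option autoImplicit false

namespace Cfsg.Agent.H600.Lam

open Finset

/-- `λ_p(n) = Σ_i ⌊n / ((p - 1) p^i)⌋`. -/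
def lam (p n : ℕ) : ℕ := ∑ i ∈ Finset.range (n + 1), n / ((p - 1) * p ^ i)

variable {p : ℕ}

theorem sum_eq_lam (hp : p.Prime) {n N : ℕ} (h : n + 1 ≤ N) :
    ∑ i ∈ range N, n / ((p - 1) * p ^ i) = lam p n := by
  unfold lam
  symm
  apply Finset.sum_subset (Finset.range_subset_range.2 h)
  intro i _ hi
  rw [Finset.mem_range, not_lt] at hi
  apply Nat.div_eq_of_lt
  have h1 : n < p ^ i := lt_of_lt_of_le (Nat.lt_pow_self hp.one_lt) (Nat.pow_le_pow_right hp.pos (by omega))
  have h2 : 1 ≤ p - 1 := by have := hp.two_le; omega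
  calc n < p ^ i := h1
    _ = 1 * p ^ i := (one_mul _).symm
    _ ≤ (p - 1) * p ^ i := Nat.mul_le_mul_right _ h2

theorem lam_eq (hp : p.Prime) (n : ℕ) :
    lam p n = n / (p - 1) + ((n / (p - 1)).factorial).factorization p := by
  set q := n / (p - 1) with hq
  have hqn : q ≤ n := Nat.div_le_self _ _
  have hlog : Nat.log p q < n + 1 := lt_of_le_of_lt (Nat.log_le_self _ _) (by omega)
  rw [Nat.factorization_factorial hp hlog]
  unfold lam
  rw [Finset.range_eq_Ico, Finset.sum_eq_sum_Ico_succ_bot (by omega)]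
  congr 1
  · rw [pow_zero, mul_one]
  · refine Finset.sum_congr rfl fun i _ => ?_
    rw [hq, Nat.div_div_eq_div_mul]

theorem fact_fact_mono {a b : ℕ} (h : a ≤ b) :
    (a.factorial).factorization p ≤ (b.factorial).factorization p :=
  (Nat.factorization_le_iff_dvd (Nat.factorial_ne_zero _) (Nat.factorial_ne_zero _)).2
    (Nat.factorial_dvd_factorial h) p

theorem lam_mono (hp : p.Prime) {a b : ℕ} (h : a ≤ b) : lam p a ≤ lam p b := by
  rw [lam_eq hp, lam_eq hp]
  have : a / (p - 1) ≤ b / (p - 1) := Nat.div_le_div_right h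
  exact Nat.add_le_add this (fact_fact_mono this)

theorem lam_add (hp : p.Prime) (a b : ℕ) : lam p a + lam p b ≤ lam p (a + b) := by
  rw [lam_eq hp, lam_eq hp, lam_eq hp]
  set x := a / (p - 1)
  set y := b / (p - 1)
  have hxy : x + y ≤ (a + b) / (p - 1) := Nat.div_add_div_le_add_div
  have h1 : (x.factorial).factorization p + (y.factorial).factorization p ≤
      ((x + y).factorial).factorization p := by
    have h2 := (Nat.factorization_le_iff_dvd
      (mul_ne_zero (Nat.factorial_ne_zero x) (Nat.factorial_ne_zero y))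
      (Nat.factorial_ne_zero (x + y))).2 (Nat.factorial_mul_factorial_dvd_factorial_add x y) p
    rwa [Nat.factorization_mul (Nat.factorial_ne_zero x) (Nat.factorial_ne_zero y)] at h2
  have h3 := fact_fact_mono (p := p) hxy
  omega

theorem lam_sum (hp : p.Prime) {ι : Type*} (s : Finset ι) (f : ι → ℕ) :
    ∑ i ∈ s, lam p (f i) ≤ lam p (∑ i ∈ s, f i) := by
  classical
  induction s using Finset.induction_on with
  | empty => simp
  | insert a s ha ih =>
    rw [Finset.sum_insert ha, Finset.sum_insert ha]
    exact (Nat.add_le_add_left ih _).trans (lam_add hp _ _)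

theorem lam_mul (hp : p.Prime) {a b : ℕ} (ha : 2 ≤ a) (hb : 2 ≤ b) :
    lam p a + lam p b ≤ lam p (a * b) := by
  refine (lam_add hp a b).trans (lam_mono hp ?_)
  nlinarith

/-- `k! (q!)^k` divides `(q k)!` for `q ≥ 1`. -/
theorem factorial_mul_pow_dvd (q k : ℕ) (hq : 1 ≤ q) :
    k.factorial * q.factorial ^ k ∣ (k * q).factorial := by
  induction k with
  | zero => simp
  | succ k ih =>
    have h1 : ((k * q + q).choose q) * (k * q).factorial * q.factorial =
        (k * q + q).factorial := Nat.add_choose_mul_factorial_mul_factorial _ _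
    obtain ⟨r, rfl⟩ : ∃ r, q = r + 1 := ⟨q - 1, by omega⟩
    have h2 := Nat.add_one_mul_choose_eq (k * (r + 1) + r) r
    have h3 : (k + 1) * (k * (r + 1) + r).choose r = (k * (r + 1) + (r + 1)).choose (r + 1) := by
      have h4 : k * (r + 1) + r + 1 = (k + 1) * (r + 1) := by ring
      have h5 : k * (r + 1) + (r + 1) = k * (r + 1) + r + 1 := by ring
      rw [h5]
      rw [h4] at h2 ⊢
      have h6 : (k + 1) * (k * (r + 1) + r).choose r * (r + 1) =
          ((k + 1) * (r + 1)).choose (r + 1) * (r + 1) := by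
        rw [← h2]; ring
      exact Nat.eq_of_mul_eq_mul_right (Nat.succ_pos r) h6
    have h7 : (k + 1) * (r + 1) = k * (r + 1) + (r + 1) := by ring
    rw [h7, ← h1, ← h3, Nat.factorial_succ, pow_succ]
    obtain ⟨c, hc⟩ := ih
    rw [hc]
    exact ⟨(k * (r + 1) + r).choose r * c, by ring⟩

/-- the permutation bound -/
theorem lam_fact (hp : p.Prime) {d : ℕ} (hd : 1 ≤ d) (k : ℕ) :
    (k.factorial).factorization p + k * lam p d ≤ lam p (k * d) := by
  rcases Nat.eq_zero_or_pos (d / (p - 1)) with hq | hq
  · have h0 : lam p d = 0 := by rw [lam_eq hp, hq]; simp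
    rw [h0, mul_zero, add_zero]
    refine le_trans ?_ (lam_mono hp (Nat.le_mul_of_pos_right k hd))
    have hlog : Nat.log p k < k + 1 := lt_of_le_of_lt (Nat.log_le_self _ _) (by omega)
    rw [Nat.factorization_factorial hp hlog]
    unfold lam
    rw [Finset.sum_Ico_eq_sum_range]
    calc ∑ i ∈ range (k + 1 - 1), k / p ^ (1 + i)
        ≤ ∑ i ∈ range (k + 1 - 1), k / ((p - 1) * p ^ i) := by
          refine Finset.sum_le_sum fun i _ => ?_
          apply Nat.div_le_div_left
          · rw [pow_add, pow_one]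
            exact Nat.mul_le_mul_right _ (Nat.sub_le _ _)
          · have := hp.two_le
            have h1 : 0 < p - 1 := by omega
            have h2 : 0 < p := hp.pos
            positivity
      _ ≤ ∑ i ∈ range (k + 1), k / ((p - 1) * p ^ i) :=
          Finset.sum_le_sum_of_subset (Finset.range_subset_range.2 (by omega))
  · set q := d / (p - 1) with hqdef
    have h1 : k * q ≤ (k * d) / (p - 1) := by
      rw [Nat.le_div_iff_mul_le (by have := hp.two_le; omega), mul_assoc]
      exact Nat.mul_le_mul_left _ (Nat.div_mul_le_self _ _)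
    rw [lam_eq hp, lam_eq hp, ← hqdef]
    have h2 := fact_fact_mono (p := p) h1
    have h3 : (k.factorial).factorization p + k * (q.factorial).factorization p ≤
        ((k * q).factorial).factorization p := by
      have h4 := (Nat.factorization_le_iff_dvd
        (mul_ne_zero (Nat.factorial_ne_zero k) (pow_ne_zero k (Nat.factorial_ne_zero q)))
        (Nat.factorial_ne_zero (k * q))).2 (factorial_mul_pow_dvd q k hq) p
      rw [Nat.factorization_mul (Nat.factorial_ne_zero k)
        (pow_ne_zero k (Nat.factorial_ne_zero q)), Nat.factorization_pow] at h4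
      simpa using h4
    have h5 : k * (q + (q.factorial).factorization p) =
        k * q + k * (q.factorial).factorization p := by ring
    rw [h5]
    omega

theorem half_div {n D : ℕ} (hD : 0 < D) (h : D ≤ n) : n / 2 / D + 1 ≤ n / D := by
  rw [Nat.div_div_eq_div_mul, mul_comm 2 D, ← Nat.div_div_eq_div_mul]
  have : 1 ≤ n / D := (Nat.one_le_div_iff hD).2 h
  omega

/-- the orbit bound -/
theorem lam_half (hp : p.Prime) {n : ℕ} (hn : 2 ≤ n) :
    (n ^ 2 - 1).factorization p + lam p (n / 2) ≤ lam p n := by
  set s := (n ^ 2 - 1).factorization p with hs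
  rcases Nat.eq_zero_or_pos s with h0 | hspos
  · rw [h0, zero_add]
    exact lam_mono hp (Nat.div_le_self _ _)
  have hne : n ^ 2 - 1 ≠ 0 := by
    have : 2 ^ 2 ≤ n ^ 2 := Nat.pow_le_pow_left hn 2
    omega
  have hdvd : p ^ s ∣ n ^ 2 - 1 := Nat.ordProj_dvd _ _
  have hfac : n ^ 2 - 1 = (n + 1) * (n - 1) := by
    have := Nat.sq_sub_sq n 1
    simpa using this
  have hp2 := hp.two_le
  -- the two sums
  have hl1 : lam p (n / 2) = ∑ i ∈ range (n + 1), n / 2 / ((p - 1) * p ^ i) :=
    (sum_eq_lam hp (by omega)).symm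
  have hD : ∀ i, 0 < (p - 1) * p ^ i := fun i => Nat.mul_pos (by omega) (Nat.pow_pos hp.pos)
  have hmono : ∀ i, n / 2 / ((p - 1) * p ^ i) ≤ n / ((p - 1) * p ^ i) := fun i =>
    Nat.div_le_div_right (Nat.div_le_self _ _)
  rcases hp.eq_two_or_odd' with rfl | hodd
  · -- p = 2
    have hnodd : Odd n := by
      by_contra h
      rw [Nat.not_odd_iff_even] at h
      have h2 : 2 ∣ n ^ 2 - 1 := (dvd_pow_self 2 (by omega)).trans hdvd
      have h3 : 2 ∣ n ^ 2 := (h.two_dvd).trans (dvd_pow_self n (by omega))
      have h4 : 2 ^ 2 ≤ n ^ 2 := Nat.pow_le_pow_left hn 2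
      omega
    have hs1 : 2 ^ (s - 1) ≤ n + 1 := by
      obtain ⟨m, hm⟩ := hnodd
      have h5 : n ^ 2 - 1 = 4 * ((m + 1) * m) := by
        rw [hfac, hm]
        have : 2 * m + 1 - 1 = 2 * m := by omega
        rw [this]; ring
      have hm1 : 1 ≤ m := by omega
      rw [h5] at hdvd
      by_cases hs2 : s ≤ 2
      · calc 2 ^ (s - 1) ≤ 2 ^ 1 := Nat.pow_le_pow_right (by norm_num) (by omega)
          _ ≤ n + 1 := by omega
      · have h6 : 2 ^ (s - 2) ∣ (m + 1) * m := by
          have h7 : 2 ^ s = 4 * 2 ^ (s - 2) := by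
            rw [show (4 : ℕ) = 2 ^ 2 by norm_num, ← pow_add]
            congr 1; omega
          rw [h7] at hdvd
          exact Nat.dvd_of_mul_dvd_mul_left (by norm_num) hdvd
        have hcop : Nat.Coprime (m + 1) m := by simp
        have h8 : 2 ^ (s - 2) ∣ m + 1 ∨ 2 ^ (s - 2) ∣ m := by
          rcases Nat.even_or_odd m with he | ho
          · right
            have : Nat.Coprime (2 ^ (s - 2)) (m + 1) :=
              Nat.Coprime.pow_left _ ((Nat.coprime_two_left).2 he.add_one)
            exact this.dvd_of_dvd_mul_left h6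
          · left
            have : Nat.Coprime (2 ^ (s - 2)) m :=
              Nat.Coprime.pow_left _ ((Nat.coprime_two_left).2 ho)
            exact this.dvd_of_dvd_mul_right h6
        have h9 : 2 ^ (s - 2) ≤ m + 1 := by
          rcases h8 with h | h
          · exact Nat.le_of_dvd (by omega) h
          · exact (Nat.le_of_dvd (by omega) h).trans (by omega)
        have h10 : 2 ^ (s - 1) = 2 * 2 ^ (s - 2) := by
          rw [← pow_succ']
          congr 1; omega
        omega
    have hD2 : ∀ i ∈ range (s - 1), (2 - 1) * 2 ^ i ≤ n := by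
      intro i hi
      rw [Finset.mem_range] at hi
      have h1 : 2 * 2 ^ i ≤ 2 ^ (s - 1) := by
        rw [← pow_succ']
        exact Nat.pow_le_pow_right (by norm_num) (by omega)
      omega
    have hsn : s - 1 ≤ n := by
      have : s - 1 < 2 ^ (s - 1) := Nat.lt_two_pow_self
      omega
    obtain ⟨m, hm⟩ := hnodd
    rw [hl1]
    unfold lam
    rw [Finset.sum_range_succ' _ n, Finset.sum_range_succ' _ n]
    by_cases hs1' : s = 1
    · rw [hs1']
      have h1 : ∑ i ∈ range n, n / 2 / ((2 - 1) * 2 ^ (i + 1)) ≤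
          ∑ i ∈ range n, n / ((2 - 1) * 2 ^ (i + 1)) :=
        Finset.sum_le_sum fun i _ => hmono (i + 1)
      have h2 := half_div (n := n) (hD 0) (by simp; omega)
      omega
    · have h1 : ∑ i ∈ range n, n / 2 / ((2 - 1) * 2 ^ (i + 1)) + (s - 2) ≤
          ∑ i ∈ range n, n / ((2 - 1) * 2 ^ (i + 1)) := by
        have h3 : s - 2 ≤ n := by omega
        have h4 : ∑ i ∈ range n, (n / 2 / ((2 - 1) * 2 ^ (i + 1)) + if i < s - 2 then 1 else 0) ≤
            ∑ i ∈ range n, n / ((2 - 1) * 2 ^ (i + 1)) := by
          refine Finset.sum_le_sum fun i _ => ?_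
          split_ifs with hi
          · exact half_div (hD _) (hD2 (i + 1) (Finset.mem_range.2 (by omega)))
          · exact hmono _
        rw [Finset.sum_add_distrib] at h4
        have h5 : ∑ i ∈ range n, (if i < s - 2 then 1 else 0) = s - 2 := by
          rw [← Finset.sum_filter, Finset.sum_const, smul_eq_mul, mul_one]
          have : (range n).filter (fun i => i < s - 2) = range (s - 2) := by
            ext i
            simp only [Finset.mem_filter, Finset.mem_range]
            omega
          rw [this, Finset.card_range]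
        rw [h5] at h4
        exact h4
      have h6 : n / 2 / ((2 - 1) * 2 ^ 0) + 2 ≤ n / ((2 - 1) * 2 ^ 0) := by
        simp only [pow_zero, mul_one]
        rw [show 2 - 1 = 1 by norm_num, Nat.div_one, Nat.div_one]
        omega
      omega
  · -- p odd
    have hcop : p ^ s ∣ n + 1 ∨ p ^ s ∣ n - 1 := by
      rw [hfac] at hdvd
      by_cases hpd : p ∣ n + 1
      · left
        have : ¬ p ∣ n - 1 := by
          intro h
          have h2 : p ∣ 2 := by
            have := Nat.dvd_sub hpd h
            have h3 : n + 1 - (n - 1) = 2 := by omega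
            rwa [h3] at this
          have h4 : p = 2 := (Nat.prime_dvd_prime_iff_eq hp Nat.prime_two).1 h2
          rw [h4] at hodd
          exact absurd hodd (by decide)
        exact (Nat.Coprime.pow_left _ ((hp.coprime_iff_not_dvd).2 this)).dvd_of_dvd_mul_right hdvd
      · right
        exact (Nat.Coprime.pow_left _ ((hp.coprime_iff_not_dvd).2 hpd)).dvd_of_dvd_mul_left hdvd
    have hps : p ^ s ≤ n + 1 := by
      rcases hcop with h | h
      · exact Nat.le_of_dvd (by omega) h
      · exact (Nat.le_of_dvd (by omega) h).trans (by omega)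
    have hD2 : ∀ i, i < s → (p - 1) * p ^ i ≤ n := by
      intro i hi
      have h1 : (p - 1) * p ^ i ≤ (p - 1) * p ^ (s - 1) :=
        Nat.mul_le_mul_left _ (Nat.pow_le_pow_right hp.pos (by omega))
      have h2 : (p - 1) * p ^ (s - 1) + p ^ (s - 1) = p ^ s := by
        have h3 : p ^ s = p * p ^ (s - 1) := by
          rw [← pow_succ']
          congr 1; omega
        rw [h3]
        have h4 : p = (p - 1) + 1 := by omega
        conv_rhs => rw [h4]
        have h5 : p - 1 + 1 = p := by omega
        rw [h5]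
        calc (p - 1) * p ^ (s - 1) + p ^ (s - 1) = ((p - 1) + 1) * p ^ (s - 1) := by ring
          _ = p * p ^ (s - 1) := by rw [h5]
      have h6 : 1 ≤ p ^ (s - 1) := Nat.one_le_pow _ _ hp.pos
      omega
    have hsn : s ≤ n := by
      have h7 := hD2 (s - 1) (by omega)
      have h8 : s - 1 < p ^ (s - 1) := Nat.lt_pow_self hp.one_lt
      have h9 : p ^ (s - 1) ≤ (p - 1) * p ^ (s - 1) := Nat.le_mul_of_pos_left _ (by omega)
      omega
    rw [hl1]
    unfold lam
    have h4 : ∑ i ∈ range (n + 1), (n / 2 / ((p - 1) * p ^ i) + if i < s then 1 else 0) ≤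
        ∑ i ∈ range (n + 1), n / ((p - 1) * p ^ i) := by
      refine Finset.sum_le_sum fun i _ => ?_
      split_ifs with hi
      · exact half_div (hD _) (hD2 i hi)
      · exact hmono _
    rw [Finset.sum_add_distrib] at h4
    have h5 : ∑ i ∈ range (n + 1), (if i < s then 1 else 0) = s := by
      rw [← Finset.sum_filter, Finset.sum_const, smul_eq_mul, mul_one]
      have : (range (n + 1)).filter (fun i => i < s) = range s := by
        ext i
        simp only [Finset.mem_filter, Finset.mem_range]
        omega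
      rw [this, Finset.card_range]
    rw [h5] at h4
    omega

end Cfsg.Agent.H600.Lam
end

-- part: H600/Red
section
/-!
# `p`-groups of automorphisms of `p'`-groups with an invariant faithful character: reductions
-/

set_option autoImplicit false

namespace Cfsg.Agent.H600.Red

open Cfsg Cfsg.Agent.Characters Cfsg.Agent.Characters.Core Cfsg.Agent.H600.Lam
open scoped ComplexConjugate

universe u v

/-- The statement to be proved, for degree `m` and groups of order at most `c`: a `p`-group `A` of
automorphisms of a `p'`-group `N` fixing a faithful character of degree `m` has order at most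
`p ^ λ_p(m)`. -/
def Bd (p m c : ℕ) : Prop :=
  ∀ (N : Type u) [Group N] [Finite N] (A : Subgroup (MulAut N)) (χ : N → ℂ),
    IsPGroup p A → (Nat.card N).Coprime p → IsCharacter N χ → (∀ x, χ x = χ 1 → x = 1) →
    (∀ a ∈ A, ∀ x, χ (a x) = χ x) → χ 1 = m → Nat.card N ≤ c → Nat.card A ≤ p ^ lam p m

/-- The kernel of a character. -/
theorem char_eq_one_iff {N : Type u} [Group N] [Finite N] {n : ℕ}
    (ρ : Representation ℂ N (Fin n → ℂ)) (x : N) :
    ρ.character x = ρ.character 1 ↔ ρ x = 1 := by
  rw [Representation.char_one]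
  exact Values.character_eq_finrank_iff ρ x

/-- The bound for the action modulo the kernel of the character. -/
theorem index_le {p m c : ℕ} (hB : Bd.{u} p m c) {N : Type u} [Group N] [Finite N]
    {A : Type v} [Group A] [Finite A] (hA : IsPGroup p A) (ψ : A →* MulAut N)
    (hcop : (Nat.card N).Coprime p) {χ : N → ℂ} (hχ : IsCharacter N χ)
    (hinv : ∀ a x, χ (ψ a x) = χ x) (h1 : χ 1 = m) (hc : Nat.card N ≤ c) :
    ∃ B : Subgroup A, (∀ a ∈ B, ∀ x, χ (x⁻¹ * ψ a x) = χ 1) ∧ B.index ≤ p ^ lam p m := by
  classical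
  obtain ⟨n, ρ, rfl⟩ := hχ
  set K : Subgroup N := MonoidHom.ker (ρ : N →* Module.End ℂ (Fin n → ℂ)) with hK
  have hmem : ∀ x, x ∈ K ↔ ρ.character x = ρ.character 1 := by
    intro x
    rw [char_eq_one_iff]
    rfl
  have hmap : ∀ a, K.map (ψ a : N →* N) = K := by
    intro a
    ext x
    constructor
    · rintro ⟨y, hy, rfl⟩
      have hy' : y ∈ K := hy
      rw [hmem] at hy' ⊢
      show ρ.character (ψ a y) = _
      rw [hinv, hy']
    · intro hx
      refine ⟨(ψ a)⁻¹ x, ?_, ?_⟩
      · have : (ψ a)⁻¹ x ∈ K := by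
          rw [hmem] at hx ⊢
          rw [← hinv a, ← MulAut.mul_apply, mul_inv_cancel, MulAut.one_apply, hx]
        exact this
      · show ψ a ((ψ a)⁻¹ x) = x
        rw [← MulAut.mul_apply, mul_inv_cancel, MulAut.one_apply]
  let Ψ : A →* MulAut (N ⧸ K) :=
    { toFun := fun a => QuotientGroup.congr K K (ψ a) (hmap a)
      map_one' := by
        apply MulEquiv.ext
        intro q
        induction q using QuotientGroup.induction_on with
        | H x =>
          show ((ψ 1 x : N) : N ⧸ K) = x
          rw [map_one]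
          rfl
      map_mul' := by
        intro a b
        apply MulEquiv.ext
        intro q
        induction q using QuotientGroup.induction_on with
        | H x =>
          show ((ψ (a * b) x : N) : N ⧸ K) = ((ψ a (ψ b x) : N) : N ⧸ K)
          rw [map_mul]
          rfl }
  have hΨ : ∀ (a : A) (x : N), Ψ a (x : N ⧸ K) = ((ψ a x : N) : N ⧸ K) := fun _ _ => rfl
  let ρ' : Representation ℂ (N ⧸ K) (Fin n → ℂ) := QuotientGroup.lift K ρ le_rfl
  have hρ' : ∀ x : N, ρ' (x : N ⧸ K) = ρ x := fun _ => rfl
  have hch : ∀ x : N, ρ'.character (x : N ⧸ K) = ρ.character x := by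
    intro x
    rw [Representation.character, Representation.character, hρ']
  refine ⟨Ψ.ker, ?_, ?_⟩
  · intro a ha x
    have h2 : Ψ a (x : N ⧸ K) = x := by
      rw [MonoidHom.mem_ker.1 ha]
      rfl
    rw [hΨ] at h2
    rw [← hmem]
    exact QuotientGroup.eq.1 h2.symm
  · rw [Subgroup.index_ker]
    refine hB (N ⧸ K) Ψ.range ρ'.character ?_ ?_ ⟨n, ρ', rfl⟩ ?_ ?_ ?_ ?_
    · exact hA.of_surjective Ψ.rangeRestrict Ψ.rangeRestrict_surjective
    · exact Nat.Coprime.coprime_dvd_left (Subgroup.card_quotient_dvd_card K) hcop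
    · intro q
      induction q using QuotientGroup.induction_on with
      | H x =>
        intro hx
        rw [QuotientGroup.eq_one_iff, hmem, ← hch, hx, ← hch]
        rfl
    · rintro _ ⟨a, rfl⟩ q
      induction q using QuotientGroup.induction_on with
      | H x =>
        rw [hΨ, hch, hch, hinv]
    · rw [← h1, ← hch]
      rfl
    · exact (Nat.le_of_dvd Nat.card_pos (Subgroup.card_quotient_dvd_card K)).trans hc

/-- The index of the kernel of a `p`-group permuting a finite set with weights. -/
theorem index_ker_perm_le {p : ℕ} (hp : p.Prime) {A : Type v} [Group A] [Finite A]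
    (hA : IsPGroup p A) {X : Type*} [Fintype X] [DecidableEq X] (f : A →* Equiv.Perm X) (d : X → ℕ)
    (hd : ∀ a x, d (f a x) = d x) :
    f.ker.index ≤ p ^ (∑ i ∈ Finset.univ.image d,
      ((Finset.univ.filter (fun x => d x = i)).card.factorial).factorization p) := by
  classical
  have : Fact p.Prime := ⟨hp⟩
  let S : Subgroup (Equiv.Perm X) :=
    { carrier := {g | d ∘ g = d}
      one_mem' := rfl
      mul_mem' := by
        intro g h hg hh
        have hg' : d ∘ g = d := hg
        have hh' : d ∘ h = d := hh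
        show d ∘ (g * h : Equiv.Perm X) = d
        rw [Equiv.Perm.coe_mul, ← Function.comp_assoc, hg', hh']
      inv_mem' := by
        intro g hg
        have hg' : d ∘ g = d := hg
        show d ∘ (g⁻¹ : Equiv.Perm X) = d
        funext x
        have h1 := congrFun hg' (g⁻¹ x)
        have h2 : g (g⁻¹ x) = x := by
          rw [← Equiv.Perm.mul_apply, mul_inv_cancel, Equiv.Perm.one_apply]
        simp only [Function.comp_apply] at h1 ⊢
        rw [h2] at h1
        exact h1.symm }
  have hS : Nat.card S = ∏ i ∈ Finset.univ.image d,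
      ((Finset.univ.filter (fun x => d x = i)).card.factorial) := by
    have h1 := DomMulAct.stabilizer_card' d
    rw [← Nat.card_eq_fintype_card] at h1
    refine Eq.trans ?_ (h1.trans ?_)
    · rfl
    · refine Finset.prod_congr rfl fun i _ => ?_
      rw [Fintype.card_subtype]
  have hle : f.range ≤ S := by
    rintro _ ⟨a, rfl⟩
    show d ∘ (f a) = d
    funext x
    exact hd a x
  rw [Subgroup.index_ker]
  have hR : IsPGroup p f.range := hA.of_surjective f.rangeRestrict f.rangeRestrict_surjective
  obtain ⟨k, hk⟩ := IsPGroup.iff_card.1 hR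
  rw [hk]
  apply Nat.pow_le_pow_right hp.pos
  have hdvd : p ^ k ∣ Nat.card S := by
    rw [← hk]
    exact Subgroup.card_dvd_of_le hle
  have hne : Nat.card S ≠ 0 := Nat.card_pos.ne'
  have h2 := (hp.pow_dvd_iff_le_factorization hne).1 hdvd
  rw [hS, Nat.factorization_prod (fun i _ => Nat.factorial_ne_zero _)] at h2
  simpa using h2

/-- Combination of a permutation action with bounds for the kernel. -/
theorem card_le_of_perm {p : ℕ} (hp : p.Prime) {A : Type v} [Group A] [Finite A]
    (hA : IsPGroup p A) {X : Type*} [Fintype X] [DecidableEq X] (f : A →* Equiv.Perm X) (d : X → ℕ)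
    (hd : ∀ a x, d (f a x) = d x) (hd1 : ∀ x, 1 ≤ d x) (B : X → Subgroup f.ker)
    (hB : ∀ x, (B x).index ≤ p ^ lam p (d x)) (hinf : ⨅ x, B x = ⊥) :
    Nat.card A ≤ p ^ lam p (∑ x, d x) := by
  classical
  have h1 : Nat.card f.ker ≤ p ^ ∑ x, lam p (d x) := by
    rw [← Subgroup.index_bot, ← hinf]
    refine (Subgroup.index_iInf_le B).trans ?_
    rw [← Finset.prod_pow_eq_pow_sum]
    exact Finset.prod_le_prod' fun x _ => hB x
  have h2 := index_ker_perm_le hp hA f d hd
  rw [← Subgroup.card_mul_index f.ker]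
  refine (Nat.mul_le_mul h1 h2).trans ?_
  rw [← pow_add]
  apply Nat.pow_le_pow_right hp.pos
  rw [Finset.sum_comp (fun i => lam p i) d, ← Finset.sum_add_distrib]
  have h3 : ∑ x, d x = ∑ i ∈ Finset.univ.image d, (Finset.univ.filter (fun x => d x = i)).card * i := by
    have := Finset.sum_comp (s := (Finset.univ : Finset X)) (fun i : ℕ => i) d
    simpa using this
  rw [h3]
  refine le_trans ?_ (lam_sum hp _ _)
  refine Finset.sum_le_sum fun i hi => ?_
  obtain ⟨x, _, hx⟩ := Finset.mem_image.1 hi
  have := lam_fact hp (show 1 ≤ i by rw [← hx]; exact hd1 x)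
    ((Finset.univ.filter (fun x => d x = i)).card)
  rw [smul_eq_mul]
  omega

/-- `χ ∘ a⁻¹` for an automorphism `a`. -/
noncomputable def twist {N : Type u} [Group N] (a : MulAut N) (θ : IrrCharacter N) :
    IrrCharacter N :=
  ⟨(θ : N → ℂ) ∘ (a⁻¹ : MulAut N), isIrr_comp (a⁻¹ : MulAut N).toMonoidHom
    (a⁻¹ : MulAut N).surjective θ.2⟩

theorem twist_apply {N : Type u} [Group N] (a : MulAut N) (θ : IrrCharacter N) (x : N) :
    (twist a θ : N → ℂ) x = (θ : N → ℂ) (a⁻¹ x) := rfl

theorem twist_one {N : Type u} [Group N] (θ : IrrCharacter N) : twist 1 θ = θ := by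
  apply Subtype.ext
  funext x
  rw [twist_apply, inv_one, MulAut.one_apply]

theorem twist_mul {N : Type u} [Group N] (a b : MulAut N) (θ : IrrCharacter N) :
    twist (a * b) θ = twist a (twist b θ) := by
  apply Subtype.ext
  funext x
  rw [twist_apply, twist_apply, twist_apply, mul_inv_rev, MulAut.mul_apply]

/-- The inner product with an invariant function is invariant. -/
theorem classInner_twist {N : Type u} [Group N] [Fintype N] (a : MulAut N) {χ : N → ℂ}
    (hinv : ∀ x, χ (a x) = χ x) (θ : IrrCharacter N) :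
    classInner χ (twist a θ : N → ℂ) = classInner χ (θ : N → ℂ) := by
  unfold classInner
  congr 1
  refine (Fintype.sum_equiv a.toEquiv _ _ (fun x => ?_)).symm
  show χ x * conj ((θ : N → ℂ) x) = χ (a x) * conj ((twist a θ : N → ℂ) (a x))
  rw [hinv, twist_apply, ← MulAut.mul_apply, inv_mul_cancel, MulAut.one_apply]

/-- The reducible case. -/
theorem card_le_of_reducible {p n : ℕ} (hp : p.Prime) (IH : ∀ m < n, ∀ c, Bd.{u} p m c)
    {N : Type u} [Group N] [Finite N] (A : Subgroup (MulAut N)) (χ : N → ℂ)
    (hA : IsPGroup p A) (hcop : (Nat.card N).Coprime p) (hχ : IsCharacter N χ)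
    (hf : ∀ x, χ x = χ 1 → x = 1) (hinv : ∀ a ∈ A, ∀ x, χ (a x) = χ x) (h1 : χ 1 = n)
    (hred : ¬ IsIrrCharacter N χ) : Nat.card A ≤ p ^ lam p n := by
  classical
  have hNft := Fintype.ofFinite N
  have hfin : Finite (IrrCharacter N) := finite_irr
  have hft : Fintype (IrrCharacter N) := Fintype.ofFinite _
  obtain ⟨μ, hμ⟩ := exists_nat_comb hχ
  have hμc : ∀ θ : IrrCharacter N, classInner χ (θ : N → ℂ) = μ θ := by
    intro θ
    conv_lhs => rw [hμ]
    exact classInner_sum_nsmul_irr μ θ
  choose deg hdegpos hdeg using fun θ : IrrCharacter N => isIrr_apply_one θ.2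
  have hsum : n = ∑ θ : IrrCharacter N, μ θ * deg θ := by
    have h2 : (n : ℂ) = ((∑ θ : IrrCharacter N, μ θ * deg θ : ℕ) : ℂ) := by
      rw [← h1, hμ]
      push_cast
      rw [Finset.sum_apply]
      refine Finset.sum_congr rfl fun θ _ => ?_
      rw [Pi.smul_apply, hdeg, nsmul_eq_mul]
    exact_mod_cast h2
  -- the constituents
  let X := {θ : IrrCharacter N // μ θ ≠ 0}
  have htw : ∀ a ∈ A, ∀ θ : IrrCharacter N, μ (twist a θ) = μ θ := by
    intro a ha θ
    have h2 := classInner_twist a (hinv a ha) θ
    rw [hμc, hμc] at h2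
    exact_mod_cast h2
  let f : A →* Equiv.Perm X :=
    { toFun := fun a =>
        { toFun := fun θ => ⟨twist (a : MulAut N) θ.1, by rw [htw a a.2]; exact θ.2⟩
          invFun := fun θ => ⟨twist ((a⁻¹ : A) : MulAut N) θ.1, by
            rw [htw _ (a⁻¹ : A).2]; exact θ.2⟩
          left_inv := by
            intro θ
            apply Subtype.ext
            show twist ((a⁻¹ : A) : MulAut N) (twist (a : MulAut N) θ.1) = θ.1
            rw [← twist_mul, ← Subgroup.coe_mul, inv_mul_cancel]
            exact twist_one _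
          right_inv := by
            intro θ
            apply Subtype.ext
            show twist (a : MulAut N) (twist ((a⁻¹ : A) : MulAut N) θ.1) = θ.1
            rw [← twist_mul, ← Subgroup.coe_mul, mul_inv_cancel]
            exact twist_one _ }
      map_one' := by
        apply Equiv.ext
        intro θ
        apply Subtype.ext
        exact twist_one _
      map_mul' := by
        intro a b
        apply Equiv.ext
        intro θ
        apply Subtype.ext
        exact twist_mul _ _ _ }
  have hfapply : ∀ (a : A) (θ : X), (f a θ).1 = twist (a : MulAut N) θ.1 := fun _ _ => rfl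
  let d : X → ℕ := fun θ => deg θ.1
  have hdtw : ∀ (a : MulAut N) (θ : IrrCharacter N), deg (twist a θ) = deg θ := by
    intro a θ
    have h2 := hdeg (twist a θ)
    rw [twist_apply, map_one, hdeg] at h2
    exact_mod_cast h2.symm
  have hdlt : ∀ θ : X, d θ < n := by
    intro θ
    by_contra hge
    push Not at hge
    have hge' : n ≤ deg θ.1 := hge
    have hle : μ θ.1 * deg θ.1 ≤ n := by
      rw [hsum]
      exact Finset.single_le_sum (f := fun θ => μ θ * deg θ) (fun _ _ => Nat.zero_le _)
        (Finset.mem_univ θ.1)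
    have hμpos : 1 ≤ μ θ.1 := Nat.one_le_iff_ne_zero.2 θ.2
    have hd0 := hdegpos θ.1
    have hμ1 : μ θ.1 = 1 := by
      by_contra hne
      have : 2 * deg θ.1 ≤ μ θ.1 * deg θ.1 := Nat.mul_le_mul_right _ (by omega)
      omega
    have hdn : deg θ.1 = n := by
      rw [hμ1, one_mul] at hle
      omega
    have hrest : ∀ η : IrrCharacter N, η ≠ θ.1 → μ η = 0 := by
      intro η hη
      by_contra hne
      rw [← Finset.add_sum_erase Finset.univ _ (Finset.mem_univ θ.1)] at hsum
      have h3 : μ η * deg η ≤ ∑ x ∈ Finset.univ.erase θ.1, μ x * deg x :=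
        Finset.single_le_sum (f := fun θ => μ θ * deg θ) (fun _ _ => Nat.zero_le _)
          (Finset.mem_erase.2 ⟨hη, Finset.mem_univ η⟩)
      have h4 : 0 < μ η * deg η := Nat.mul_pos (Nat.pos_of_ne_zero hne) (hdegpos η)
      rw [hμ1, one_mul] at hsum
      omega
    apply hred
    rw [hμ, Finset.sum_eq_single θ.1]
    · rw [hμ1, one_smul]
      exact θ.1.2
    · intro η _ hη
      rw [hrest η hη, zero_smul]
    · intro h
      exact absurd (Finset.mem_univ _) h
  have hker : ∀ (a : f.ker) (θ : X) (x : N), (θ.1 : N → ℂ) (((a : A) : MulAut N) x) =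
      (θ.1 : N → ℂ) x := by
    intro a θ x
    have h2 : f a θ = θ := by
      rw [MonoidHom.mem_ker.1 a.2]
      rfl
    have h3 : twist ((a : A) : MulAut N) θ.1 = θ.1 := congrArg Subtype.val h2
    have h4 := congrFun (congrArg Subtype.val h3) (((a : A) : MulAut N) x)
    rw [twist_apply, ← MulAut.mul_apply, inv_mul_cancel, MulAut.one_apply] at h4
    exact h4.symm
  choose B hB1 hB2 using fun θ : X => index_le (IH (d θ) (hdlt θ) (Nat.card N))
    (hA.to_subgroup f.ker) (A.subtype.comp f.ker.subtype) hcop (isIrr_isCharacter θ.1.2)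
    (fun a x => hker a θ x) (hdeg θ.1) le_rfl
  have hres := card_le_of_perm hp hA f d (fun a θ => hdtw a θ.1) (fun θ => hdegpos θ.1) B hB2 (by
    rw [eq_bot_iff]
    intro a ha
    rw [Subgroup.mem_iInf] at ha
    rw [Subgroup.mem_bot]
    have h5 : ∀ x : N, ((a : A) : MulAut N) x = x := by
      intro x
      have h6 : χ (x⁻¹ * ((a : A) : MulAut N) x) = χ 1 := by
        rw [hμ, Finset.sum_apply, Finset.sum_apply]
        refine Finset.sum_congr rfl fun θ _ => ?_
        rw [Pi.smul_apply, Pi.smul_apply]
        by_cases h0 : μ θ = 0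
        · rw [h0, zero_smul, zero_smul]
        · have h7 := hB1 ⟨θ, h0⟩ a (ha ⟨θ, h0⟩) x
          congr 1
      exact (inv_mul_eq_one.1 (hf _ h6)).symm
    apply Subtype.ext
    apply Subtype.ext
    apply MulEquiv.ext
    exact h5)
  refine hres.trans (Nat.pow_le_pow_right hp.pos (lam_mono hp ?_))
  rw [hsum]
  calc ∑ θ : X, d θ = ∑ θ ∈ Finset.univ.filter (fun θ : IrrCharacter N => μ θ ≠ 0), deg θ :=
        (Finset.sum_subtype _ (by simp) _).symm
    _ ≤ ∑ θ ∈ Finset.univ.filter (fun θ : IrrCharacter N => μ θ ≠ 0), μ θ * deg θ := by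
        refine Finset.sum_le_sum fun θ hθ => ?_
        exact Nat.le_mul_of_pos_left _ (Nat.pos_of_ne_zero (Finset.mem_filter.1 hθ).2)
    _ ≤ ∑ θ : IrrCharacter N, μ θ * deg θ :=
        Finset.sum_le_sum_of_subset (Finset.filter_subset _ _)

end Cfsg.Agent.H600.Red
end
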